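import Groth.Agent.GrpSchLib.FieldTop
import Groth.Agent.GrpdEquidim.Basic
import Groth.Agent.FieldBaseClosure.Basic

/-!
# Groupoids over a field: one component through each point
-/

set_option autoImplicit false
set_option backward.isDefEq.respectTransparency false
set_option backward.isDefEq.respectTransparency.types false

universe u

open CategoryTheory CategoryTheory.Limits AlgebraicGeometry Grpd TopologicalSpace
open Groth.Agent.GrpSchLib (IsMaxPt exists_isMaxPt UniComp)

namespace Groth.Agent.GrpdUni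

theorem exists_irreducible_closed {X : Scheme.{u}} (η : X) :
    ∃ (Z : Scheme.{u}) (ι : Z ⟶ X), IsClosedImmersion ι ∧ IrreducibleSpace Z ∧ Set.range ι = closure {η} := by
  let ι := (Scheme.IdealSheafData.vanishingIdeal ⟨closure {η}, isClosed_closure⟩ : X.IdealSheafData).subschemeι
  have hr : Set.range ι = closure {η} :=
    (Scheme.IdealSheafData.range_subschemeι _).trans (Scheme.IdealSheafData.coe_support_vanishingIdeal _)
  refine ⟨_, ι, inferInstanceAs (IsClosedImmersion ι), ?_, hr⟩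
  obtain ⟨t₀, ht₀⟩ : η ∈ Set.range ι := hr.ge (subset_closure rfl)
  rw [irreducibleSpace_def, Set.top_eq_univ, ← show closure ({t₀} : Set _) = Set.univ from
    Set.eq_univ_of_forall fun t => (ι.isEmbedding.isInducing.specializes_iff.1
      (specializes_iff_mem_closure.2 (ht₀.symm ▸ (hr.le ⟨t, rfl⟩ : ι t ∈ closure {η})))).mem_closure]
  exact isIrreducible_singleton.closure

variable {S : Scheme.{u}} (G : GroupoidScheme S) {k : Type u} [Field k] (eU : G.U ≅ Spec (CommRingCat.of k))
  {Ω : Type u} [Field Ω] [IsAlgClosed Ω] (a : Spec (CommRingCat.of Ω) ⟶ G.U)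

/-- The arrows with source `a` and target in the image of `a`. -/
noncomputable abbrev restr : Scheme.{u} := pullback a (pullback.fst G.s a ≫ G.t)

noncomputable def tgt : restr G a ⟶ Spec (CommRingCat.of Ω) := pullback.fst _ _
noncomputable def src : restr G a ⟶ Spec (CommRingCat.of Ω) := pullback.snd _ _ ≫ pullback.snd G.s a
noncomputable def arr : restr G a ⟶ G.R := pullback.snd _ _ ≫ pullback.fst G.s a

theorem arr_s : arr G a ≫ G.s = src G a ≫ a := by
  rw [arr, src, Category.assoc, Category.assoc, pullback.condition]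

theorem arr_t : arr G a ≫ G.t = tgt G a ≫ a := by
  rw [arr, tgt, Category.assoc]; exact (pullback.condition (f := a) (g := pullback.fst G.s a ≫ G.t)).symm

theorem restr_ext {W : Scheme.{u}} {f g : W ⟶ restr G a} (h1 : f ≫ tgt G a = g ≫ tgt G a)
    (h2 : f ≫ arr G a = g ≫ arr G a) (h3 : f ≫ src G a = g ≫ src G a) : f = g :=
  pullback.hom_ext h1 (pullback.hom_ext ((Category.assoc _ _ _).trans (h2.trans (Category.assoc _ _ _).symm))
    ((Category.assoc _ _ _).trans (h3.trans (Category.assoc _ _ _).symm)))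

/-- Constructor. -/
noncomputable def mkR {W : Scheme.{u}} (u : W ⟶ Spec (CommRingCat.of Ω)) (y : W ⟶ G.R)
    (v : W ⟶ Spec (CommRingCat.of Ω)) (h1 : y ≫ G.t = u ≫ a) (h2 : y ≫ G.s = v ≫ a) : W ⟶ restr G a :=
  pullback.lift u (pullback.lift y v h2) (by rw [pullback.lift_fst_assoc, h1])

theorem mkR_tgt {W : Scheme.{u}} (u : W ⟶ Spec (CommRingCat.of Ω)) (y : W ⟶ G.R) (v : W ⟶ Spec (CommRingCat.of Ω))
    (h1 : y ≫ G.t = u ≫ a) (h2 : y ≫ G.s = v ≫ a) : mkR G a u y v h1 h2 ≫ tgt G a = u := pullback.lift_fst _ _ _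

theorem mkR_arr {W : Scheme.{u}} (u : W ⟶ Spec (CommRingCat.of Ω)) (y : W ⟶ G.R) (v : W ⟶ Spec (CommRingCat.of Ω))
    (h1 : y ≫ G.t = u ≫ a) (h2 : y ≫ G.s = v ≫ a) : mkR G a u y v h1 h2 ≫ arr G a = y := by
  rw [mkR, arr, pullback.lift_snd_assoc, pullback.lift_fst]

theorem mkR_src {W : Scheme.{u}} (u : W ⟶ Spec (CommRingCat.of Ω)) (y : W ⟶ G.R) (v : W ⟶ Spec (CommRingCat.of Ω))
    (h1 : y ≫ G.t = u ≫ a) (h2 : y ≫ G.s = v ≫ a) : mkR G a u y v h1 h2 ≫ src G a = v := by
  rw [mkR, src, pullback.lift_snd_assoc, pullback.lift_snd]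

/-- The identity arrow. -/
noncomputable def one : Spec (CommRingCat.of Ω) ⟶ restr G a :=
  mkR G a (𝟙 _) (a ≫ G.e) (𝟙 _) (by rw [Category.assoc, G.e_t, Category.comp_id, Category.id_comp])
    (by rw [Category.assoc, G.e_s, Category.comp_id, Category.id_comp])

/-- The composition. -/
noncomputable def comp : pullback (src G a) (tgt G a) ⟶ restr G a :=
  mkR G a (pullback.fst _ _ ≫ tgt G a)
    (pullback.lift (pullback.fst _ _ ≫ arr G a) (pullback.snd _ _ ≫ arr G a)
      (by rw [Category.assoc, Category.assoc, arr_s, arr_t, pullback.condition_assoc]) ≫ G.c)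
    (pullback.snd _ _ ≫ src G a)
    (by rw [G.comp_t, Category.assoc, arr_t, Category.assoc])
    (by rw [G.comp_s, Category.assoc, arr_s, Category.assoc])

/-- `(z, 1)`. -/
noncomputable def unitR : restr G a ⟶ pullback (src G a) (tgt G a) :=
  pullback.lift (𝟙 _) (src G a ≫ one G a) (by rw [Category.id_comp, Category.assoc, one, mkR_tgt, Category.comp_id])

/-- `(1, z)`. -/
noncomputable def unitL : restr G a ⟶ pullback (src G a) (tgt G a) :=
  pullback.lift (tgt G a ≫ one G a) (𝟙 _) (by rw [Category.id_comp, Category.assoc, one, mkR_src, Category.comp_id])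

theorem unitR_comp : unitR G a ≫ comp G a = 𝟙 _ := by
  refine restr_ext G a ?_ ?_ ?_
  · rw [Category.assoc, comp, mkR_tgt, Category.id_comp, ← Category.assoc, unitR, pullback.lift_fst, Category.id_comp]
  · rw [Category.assoc, comp, mkR_arr, Category.id_comp, ← Category.assoc]
    refine Eq.trans ?_ (G.comp_e (arr G a))
    congr 1
    refine pullback.hom_ext ?_ ?_
    · rw [Category.assoc, pullback.lift_fst, pullback.lift_fst, unitR, pullback.lift_fst_assoc, Category.id_comp]
    · rw [Category.assoc, pullback.lift_snd, pullback.lift_snd, unitR, pullback.lift_snd_assoc, Category.assoc, one,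
        mkR_arr, ← Category.assoc, ← arr_s, Category.assoc]
  · rw [Category.assoc, comp, mkR_src, Category.id_comp, ← Category.assoc, unitR, pullback.lift_snd, Category.assoc,
      one, mkR_src, Category.comp_id]

theorem unitL_comp : unitL G a ≫ comp G a = 𝟙 _ := by
  refine restr_ext G a ?_ ?_ ?_
  · rw [Category.assoc, comp, mkR_tgt, Category.id_comp, ← Category.assoc, unitL, pullback.lift_fst, Category.assoc,
      one, mkR_tgt, Category.comp_id]
  · rw [Category.assoc, comp, mkR_arr, Category.id_comp, ← Category.assoc]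
    refine Eq.trans ?_ (G.e_comp (arr G a))
    congr 1
    refine pullback.hom_ext ?_ ?_
    · rw [Category.assoc, pullback.lift_fst, pullback.lift_fst, unitL, pullback.lift_fst_assoc, Category.assoc, one,
        mkR_arr, ← Category.assoc, ← arr_t, Category.assoc]
    · rw [Category.assoc, pullback.lift_snd, pullback.lift_snd, unitL, pullback.lift_snd_assoc, Category.id_comp]
  · rw [Category.assoc, comp, mkR_src, Category.id_comp, ← Category.assoc, unitL, pullback.lift_snd, Category.id_comp]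

theorem uni_one {η₁ η₂ : ↥(restr G a)} (h1 : η₁ ⤳ one G a (IsLocalRing.closedPoint Ω))
    (h2 : η₂ ⤳ one G a (IsLocalRing.closedPoint Ω)) : ∃ c, c ⤳ η₁ ∧ c ⤳ η₂ := by
  haveI : Subsingleton (Spec (CommRingCat.of Ω)) := inferInstanceAs (Subsingleton (PrimeSpectrum Ω))
  obtain ⟨Z₁, ι₁, _, _, hr₁⟩ := exists_irreducible_closed η₁
  obtain ⟨Z₂, ι₂, _, _, hr₂⟩ := exists_irreducible_closed η₂
  haveI := GrpSchLib.geometricallyIrreducible_of_isAlgClosed (ι₁ ≫ src G a)
  haveI : UniversallyOpen (ι₁ ≫ src G a) := FieldBaseClosure.universallyOpen_to (Iso.refl _) _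
  haveI : IrreducibleSpace ↥(pullback (ι₁ ≫ src G a) (ι₂ ≫ tgt G a)) := inferInstance
  let m := pullback.map (ι₁ ≫ src G a) (ι₂ ≫ tgt G a) (src G a) (tgt G a) ι₁ ι₂ (𝟙 _)
    (Category.comp_id _) (Category.comp_id _)
  have hm : Set.range m = pullback.fst (src G a) (tgt G a) ⁻¹' Set.range ι₁ ∩
      pullback.snd (src G a) (tgt G a) ⁻¹' Set.range ι₂ := Scheme.Pullback.range_map _ _ _ _ _ _ _ _ _
  have hW := GrpSchLib.isIrreducible_closure_image (comp G a).continuous
    (show IsIrreducible (Set.range m) by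
      rw [← Set.image_univ]; exact (IrreducibleSpace.isIrreducible_univ _).image _ m.continuous.continuousOn)
  have hgen := hW.isGenericPoint_genericPoint isClosed_closure
  refine ⟨_, hgen.specializes (subset_closure ⟨unitR G a η₁, ?_, ?_⟩),
    hgen.specializes (subset_closure ⟨unitL G a η₂, ?_, ?_⟩)⟩
  · rw [hm, hr₁, hr₂]
    refine ⟨?_, ?_⟩
    · rw [Set.mem_preimage, ← Scheme.Hom.comp_apply, unitR, pullback.lift_fst]
      exact subset_closure rfl
    · rw [Set.mem_preimage, ← Scheme.Hom.comp_apply, unitR, pullback.lift_snd, Scheme.Hom.comp_apply,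
        Subsingleton.elim (src G a η₁) (IsLocalRing.closedPoint Ω)]
      exact h2.mem_closure
  · rw [← Scheme.Hom.comp_apply, unitR_comp]
    rfl
  · rw [hm, hr₁, hr₂]
    refine ⟨?_, ?_⟩
    · rw [Set.mem_preimage, ← Scheme.Hom.comp_apply, unitL, pullback.lift_fst, Scheme.Hom.comp_apply,
        Subsingleton.elim (tgt G a η₂) (IsLocalRing.closedPoint Ω)]
      exact h1.mem_closure
    · rw [Set.mem_preimage, ← Scheme.Hom.comp_apply, unitL, pullback.lift_snd]
      exact subset_closure rfl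
  · rw [← Scheme.Hom.comp_apply, unitL_comp]
    rfl

include eU in
omit [IsAlgClosed Ω] in
theorem flat_to : Flat a := by
  haveI : Nonempty G.U := ⟨eU.inv (IsLocalRing.closedPoint k)⟩
  haveI : IsIntegral G.U := isIntegral_of_isOpenImmersion eU.hom
  haveI : Subsingleton G.U := eU.hom.homeomorph.subsingleton
  infer_instance

/-- The identity arrow at `a`. -/
noncomputable def unitPt : Spec (CommRingCat.of Ω) ⟶ pullback G.s a :=
  pullback.lift (a ≫ G.e) (𝟙 _) (by rw [Category.assoc, G.e_s, Category.comp_id, Category.id_comp])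

include eU in
theorem uni_unitPt {η₁ η₂ : ↥(pullback G.s a)} (h1 : η₁ ⤳ unitPt G a (IsLocalRing.closedPoint Ω))
    (h2 : η₂ ⤳ unitPt G a (IsLocalRing.closedPoint Ω)) : ∃ c, c ⤳ η₁ ∧ c ⤳ η₂ := by
  haveI := flat_to G eU a
  let π := pullback.snd a (pullback.fst G.s a ≫ G.t)
  have hπ : one G a ≫ π = unitPt G a := pullback.lift_snd _ _ _
  have e : π (one G a (IsLocalRing.closedPoint Ω)) = unitPt G a (IsLocalRing.closedPoint Ω) := by
    rw [← Scheme.Hom.comp_apply, hπ]
  obtain ⟨l₁, hl₁, e₁⟩ := Flat.generalizingMap π (e.symm ▸ h1)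
  obtain ⟨l₂, hl₂, e₂⟩ := Flat.generalizingMap π (e.symm ▸ h2)
  obtain ⟨c, hc1, hc2⟩ := uni_one G a hl₁ hl₂
  exact ⟨π c, e₁ ▸ hc1.map π.continuous, e₂ ▸ hc2.map π.continuous⟩

include eU in
/-- Every point of a groupoid on a field lies on a single component. -/
theorem uniComp : UniComp ↥G.R := by
  intro r η₁ η₂ h1 h2
  let Ω' := AlgebraicClosure (G.R.residueField r)
  let x : Spec (CommRingCat.of Ω') ⟶ G.R :=
    Spec.map (CommRingCat.ofHom (algebraMap (G.R.residueField r) Ω')) ≫ G.R.fromSpecResidueField r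
  let pt : Spec (CommRingCat.of Ω') := IsLocalRing.closedPoint Ω'
  have hx : x pt = r := by
    rw [Scheme.Hom.comp_apply]
    exact Scheme.fromSpecResidueField_apply r _
  haveI : IsAlgClosed Ω' := AlgebraicClosure.isAlgClosed _
  let τ := GrpdEquidim.precomp G x (x ≫ G.s) (x ≫ G.t) rfl rfl
  haveI : IsIso τ := GrpdEquidim.isIso_precomp G x _ _ rfl rfl
  haveI := flat_to G eU (x ≫ G.s)
  let p := pullback.fst G.s (x ≫ G.s)
  have hP : unitPt G (x ≫ G.t) ≫ τ ≫ p = x := by
    rw [← Category.assoc]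
    show (pullback.lift _ _ _ ≫ GrpdEquidim.precomp G x _ _ _ _) ≫ _ = x
    rw [GrpdEquidim.precomp_unit]
    exact pullback.lift_fst _ _ _
  haveI : Flat (τ ≫ p) := inferInstance
  have e : (τ ≫ p) (unitPt G (x ≫ G.t) pt) = r := by rw [← Scheme.Hom.comp_apply, hP, hx]
  obtain ⟨l₁, hl₁, e₁⟩ := Flat.generalizingMap (τ ≫ p) (e.symm ▸ h1)
  obtain ⟨l₂, hl₂, e₂⟩ := Flat.generalizingMap (τ ≫ p) (e.symm ▸ h2)
  obtain ⟨c, hc1, hc2⟩ := uni_unitPt G eU (x ≫ G.t) hl₁ hl₂
  exact ⟨(τ ≫ p) c, e₁ ▸ hc1.map (τ ≫ p).continuous, e₂ ▸ hc2.map (τ ≫ p).continuous⟩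

theorem minimalPrimes_subsingleton {X : Scheme.{u}} (h : UniComp ↥X) (x : X) :
    (minimalPrimes (X.presheaf.stalk x)).Subsingleton := by
  intro p hp q hq
  let P : Spec (X.presheaf.stalk x) := ⟨p, hp.1.1⟩
  let Q : Spec (X.presheaf.stalk x) := ⟨q, hq.1.1⟩
  have hP : X.fromSpecStalk x P ⤳ x := by
    have : X.fromSpecStalk x P ∈ Set.range (X.fromSpecStalk x) := ⟨P, rfl⟩
    rwa [Scheme.range_fromSpecStalk] at this
  have hQ : X.fromSpecStalk x Q ⤳ x := by
    have : X.fromSpecStalk x Q ∈ Set.range (X.fromSpecStalk x) := ⟨Q, rfl⟩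
    rwa [Scheme.range_fromSpecStalk] at this
  obtain ⟨c, hcP, hcQ⟩ := h x _ _ hP hQ
  obtain ⟨R, rfl⟩ : c ∈ Set.range (X.fromSpecStalk x) := by
    rw [Scheme.range_fromSpecStalk]; exact hcP.trans hP
  have h1 : R.asIdeal ≤ p := (PrimeSpectrum.le_iff_specializes R P).mpr
    ((X.fromSpecStalk x).isEmbedding.isInducing.specializes_iff.mp hcP)
  have h2 : R.asIdeal ≤ q := (PrimeSpectrum.le_iff_specializes R Q).mpr
    ((X.fromSpecStalk x).isEmbedding.isInducing.specializes_iff.mp hcQ)
  exact (h1.antisymm (hp.2 ⟨R.isPrime, bot_le⟩ h1)).symm.trans (h2.antisymm (hq.2 ⟨R.isPrime, bot_le⟩ h2))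

theorem existsUnique_component {X : Scheme.{u}} (h : UniComp ↥X) (x : X) :
    ∃! Z : Set X, Z ∈ irreducibleComponents (X : Type u) ∧ x ∈ Z := by
  refine ⟨irreducibleComponent x, ⟨irreducibleComponent_mem_irreducibleComponents x, mem_irreducibleComponent⟩,
    fun Z ⟨hZ, hx⟩ => ?_⟩
  have hg := hZ.1.isGenericPoint_genericPoint (isClosed_of_mem_irreducibleComponents Z hZ)
  have hg' := isIrreducible_irreducibleComponent.isGenericPoint_genericPoint (isClosed_irreducibleComponent (x := x))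
  obtain ⟨c, hc, hc'⟩ := h x _ _ (hg.specializes hx) (hg'.specializes mem_irreducibleComponent)
  have key : ∀ (W : Set X) (g : X), W ∈ irreducibleComponents (X : Type u) → IsGenericPoint g W → c ⤳ g →
      W = closure {c} := fun W g hW hg hc => by
    refine subset_antisymm (fun w hw => (hc.trans (hg.specializes hw)).mem_closure)
      (hW.2 isIrreducible_singleton.closure fun w hw => (hc.trans (hg.specializes hw)).mem_closure)
  rw [key Z _ hZ hg hc, key _ _ (irreducibleComponent_mem_irreducibleComponents x) hg' hc']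

end Groth.Agent.GrpdUni
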