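import Groth.Agent.GrpdUni.Basic
import Mathlib.AlgebraicGeometry.Morphisms.Integral

/-!
# The component through the identity is geometrically irreducible
-/

set_option autoImplicit false
set_option backward.isDefEq.respectTransparency false
set_option backward.isDefEq.respectTransparency.types false

universe u

open CategoryTheory CategoryTheory.Limits AlgebraicGeometry Grpd TopologicalSpace
open Groth.Agent.GrpSchLib (IsMaxPt exists_isMaxPt UniComp)

namespace Groth.Agent.GrpdUni

variable {S : Scheme.{u}} (G : GroupoidScheme S)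

theorem e_i : G.e ≫ G.i = G.e := by
  refine ((G.comp_e (G.e ≫ G.i)).symm.trans ((GrpdLib.c_congr G _ rfl ?_).trans ((G.i_comp G.e).trans ?_)))
  · rw [Category.assoc, reassoc_of% G.i_s, reassoc_of% G.e_t]
  · rw [reassoc_of% G.e_s]

theorem i_i : G.i ≫ G.i = 𝟙 G.R := by
  set v := G.i with hv
  have hvs : v ≫ G.s = 𝟙 G.R ≫ G.t := by rw [hv, G.i_s, Category.id_comp]
  have hvt : v ≫ G.t = G.s := G.i_t
  have h3 := G.assoc (v ≫ G.i) v (𝟙 G.R) (by rw [Category.assoc, G.i_s]) hvs
  have h4 : pullback.lift v (𝟙 G.R) hvs ≫ G.c = G.s ≫ G.e := by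
    refine (GrpdLib.c_congr G _ (Category.id_comp G.i).symm rfl).trans ((G.i_comp (𝟙 _)).trans (Category.id_comp _))
  calc v ≫ G.i = pullback.lift (v ≫ G.i) ((v ≫ G.i) ≫ G.s ≫ G.e)
        (by simp only [Category.assoc, G.e_t, Category.comp_id]) ≫ G.c := (G.comp_e _).symm
    _ = _ := GrpdLib.c_congr G _ rfl (show (v ≫ G.i) ≫ G.s ≫ G.e = pullback.lift v (𝟙 G.R) hvs ≫ G.c by
          rw [h4, Category.assoc, reassoc_of% G.i_s, ← Category.assoc, hvt])
    _ = _ := h3.symm
    _ = pullback.lift (𝟙 G.R ≫ G.t ≫ G.e) (𝟙 G.R) (by simp only [Category.assoc, G.e_s, Category.comp_id]) ≫ G.c :=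
          GrpdLib.c_congr G _ ((G.i_comp v).trans (by rw [← Category.assoc, hvs, Category.assoc])) rfl
    _ = 𝟙 _ := G.e_comp _

variable {k : Type u} [Field k] (eU : G.U ≅ Spec (CommRingCat.of k))

theorem geometricallyIrreducible_s (Z : Scheme.{u}) (ι : Z ⟶ G.R) [IsClosedImmersion ι] [IrreducibleSpace Z]
    (hZ : Set.range ι ∈ irreducibleComponents ↥G.R) (he : G.e (eU.inv (IsLocalRing.closedPoint k)) ∈ Set.range ι) :
    GeometricallyIrreducible (ι ≫ G.s ≫ eU.hom) := by
  refine GrpSchLib.geometricallyIrreducible_of_algClosure _ ?_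
  let g := Spec.map (CommRingCat.ofHom (algebraMap k (AlgebraicClosure k)))
  haveI : IsIntegralHom g := (IsIntegralHom.SpecMap_iff).mpr (algebraMap_isIntegral_iff.mpr inferInstance)
  let a : Spec (CommRingCat.of (AlgebraicClosure k)) ⟶ G.U := g ≫ eU.inv
  haveI : IsIntegralHom a := inferInstanceAs (IsIntegralHom (g ≫ eU.inv))
  haveI := flat_to G eU a
  haveI : Subsingleton G.U := eU.hom.homeomorph.subsingleton
  haveI : Subsingleton (Spec (CommRingCat.of (AlgebraicClosure k))) :=
    inferInstanceAs (Subsingleton (PrimeSpectrum (AlgebraicClosure k)))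
  let p := pullback.fst G.s a
  let P0 := unitPt G a (IsLocalRing.closedPoint (AlgebraicClosure k))
  let e₀ := G.e (eU.inv (IsLocalRing.closedPoint k))
  have hP0 : p P0 = e₀ := by
    show (unitPt G a ≫ p) _ = _
    rw [unitPt, pullback.lift_fst, Scheme.Hom.comp_apply]
    exact congrArg G.e (Subsingleton.elim _ _)
  have hfib : ∀ q, p q = e₀ → q = P0 := fun q hq => by
    have : q ∈ Set.range (pullback.snd G.e p) := by
      rw [Scheme.Pullback.range_snd]; exact ⟨eU.inv (IsLocalRing.closedPoint k), hq.symm⟩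
    obtain ⟨w, rfl⟩ := this
    have e : pullback.snd G.e p = (pullback.snd G.e p ≫ pullback.snd G.s a) ≫ unitPt G a := by
      refine pullback.hom_ext ?_ ?_
      · simp only [unitPt, Category.assoc, pullback.lift_fst]
        show pullback.snd G.e p ≫ p = _
        rw [← pullback.condition (f := G.e) (g := p), ← pullback.condition_assoc (f := G.s) (g := a),
          ← reassoc_of% pullback.condition (f := G.e) (g := p), reassoc_of% G.e_s]
      · simp only [unitPt, Category.assoc, pullback.lift_snd, Category.comp_id]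
    rw [e, Scheme.Hom.comp_apply]
    exact congrArg (unitPt G a) (Subsingleton.elim _ _)
  have hZc : IsClosed (Set.range ι) := ι.isClosedEmbedding.isClosed_range
  have hz := hZ.1.isGenericPoint_genericPoint hZc
  set z := hZ.1.genericPoint
  obtain ⟨M, hM, hMP⟩ := exists_isMaxPt P0
  have hzmax : ∀ d, d ⤳ z → d = z := fun d hd => by
    have h1 : Set.range ι ⊆ closure {d} := fun w hw => (hd.trans (hz.specializes hw)).mem_closure
    have h2 : closure {d} ⊆ Set.range ι := hZ.2 isIrreducible_singleton.closure h1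
    exact ((hz.specializes (h2 (subset_closure rfl))).antisymm hd).eq.symm
  have hze : z ⤳ e₀ := hz.specializes he
  have key : ∀ z', p z' = z → M ⤳ z' := fun z' hz' => by
    obtain ⟨l', hl', hpl⟩ := p.isClosedMap.specializingMap (hz' ▸ hze : p z' ⤳ e₀)
    rw [hfib l' hpl] at hl'
    obtain ⟨c, hc1, hc2⟩ := uni_unitPt G eU a hMP hl'
    exact hM c hc1 ▸ hc2
  have hpM : p M = z := by
    obtain ⟨z', -, hz'⟩ := Flat.generalizingMap p (hP0.symm ▸ hze : z ⤳ p P0)
    exact hzmax _ (hz' ▸ (key z' hz').map p.continuous)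
  have hpre : p ⁻¹' Set.range ι = closure {M} := by
    refine subset_antisymm (fun l hl => ?_) (closure_minimal ?_ (hZc.preimage p.continuous))
    · obtain ⟨z', hz'l, hz'⟩ := Flat.generalizingMap p (hz.specializes hl : z ⤳ p l)
      exact ((key z' hz').trans hz'l).mem_closure
    · rw [Set.singleton_subset_iff, Set.mem_preimage, hpM]
      exact hz.mem
  let m : pullback (ι ≫ G.s ≫ eU.hom) g ⟶ pullback G.s a :=
    pullback.map _ _ _ _ ι (𝟙 _) eU.inv (by simp) (Category.id_comp a).symm
  haveI : IsClosedImmersion m := by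
    have hsq : IsPullback m (pullback.fst (ι ≫ G.s ≫ eU.hom) g) p ι := by
      refine (IsPullback.of_right ?_ (pullback.lift_fst _ _ _) (IsPullback.of_hasPullback G.s a).flip)
      rw [pullback.lift_snd, Category.comp_id]
      refine IsPullback.of_iso (IsPullback.of_hasPullback (ι ≫ G.s ≫ eU.hom) g).flip (Iso.refl _) (Iso.refl _)
        (Iso.refl _) eU.symm (by simp) (by simp) (by simp [a]) (by simp)
    exact MorphismProperty.of_isPullback (P := @IsClosedImmersion) hsq.flip inferInstance
  have hr : Set.range m = p ⁻¹' Set.range ι := by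
    have h : Set.range m = pullback.fst G.s a ⁻¹' Set.range ι ∩
        pullback.snd G.s a ⁻¹' Set.range (𝟙 (Spec (CommRingCat.of (AlgebraicClosure k))) : _ ⟶ _) :=
      Scheme.Pullback.range_map _ _ _ _ _ _ _ _ _
    rw [h]
    refine Set.inter_eq_left.2 fun q _ => ⟨pullback.snd G.s a q, rfl⟩
  obtain ⟨t₀, ht₀⟩ : M ∈ Set.range m := by rw [hr, hpre]; exact subset_closure rfl
  rw [irreducibleSpace_def, Set.top_eq_univ, ← show closure ({t₀} : Set _) = Set.univ from
    Set.eq_univ_of_forall fun t => (m.isEmbedding.isInducing.specializes_iff.1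
      (specializes_iff_mem_closure.2 (ht₀.symm ▸ ((hr.trans hpre).le ⟨t, rfl⟩ : m t ∈ closure {M})))).mem_closure]
  exact isIrreducible_singleton.closure

theorem geometricallyIrreducible_t (Z : Scheme.{u}) (ι : Z ⟶ G.R) [IsClosedImmersion ι] [IrreducibleSpace Z]
    (hZ : Set.range ι ∈ irreducibleComponents ↥G.R) (he : G.e (eU.inv (IsLocalRing.closedPoint k)) ∈ Set.range ι) :
    GeometricallyIrreducible (ι ≫ G.t ≫ eU.hom) := by
  haveI : IsIso G.i := ⟨G.i, i_i G, i_i G⟩
  have hr : Set.range (ι ≫ G.i) = G.i.homeomorph '' Set.range ι := by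
    ext w
    constructor
    · rintro ⟨z, rfl⟩; exact ⟨ι z, ⟨z, rfl⟩, rfl⟩
    · rintro ⟨_, ⟨z, rfl⟩, rfl⟩; exact ⟨z, rfl⟩
  have h : GeometricallyIrreducible ((ι ≫ G.i) ≫ G.s ≫ eU.hom) :=
    geometricallyIrreducible_s G eU Z (ι ≫ G.i) (by
      rw [hr]
      refine ⟨hZ.1.image _ G.i.homeomorph.continuous.continuousOn, fun W hW hsub => ?_⟩
      have h1 : IsIrreducible (G.i.homeomorph.symm '' W) := hW.image _ G.i.homeomorph.symm.continuous.continuousOn
      have h2 := hZ.2 h1 fun w hw => ⟨G.i.homeomorph w, hsub ⟨w, hw, rfl⟩, G.i.homeomorph.symm_apply_apply w⟩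
      intro w hw
      exact ⟨G.i.homeomorph.symm w, h2 ⟨w, hw, rfl⟩, G.i.homeomorph.apply_symm_apply w⟩) (by
      rw [hr]
      refine ⟨_, he, ?_⟩
      show G.i (G.e _) = G.e _
      rw [← Scheme.Hom.comp_apply, e_i])
  rwa [Category.assoc, reassoc_of% G.i_s] at h

end Groth.Agent.GrpdUni
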